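import Cfsg.Agent.Lib.Block.PPartDerived
import Cfsg.Agent.Lib.Block.Elementary
import Cfsg.Agent.Lib.Block.PrincipalColumn
import Cfsg.Agent.Lib.Grp.PSolvable
import Cfsg.Agent.Lib.Char.PPrimeDegree
import Cfsg.Agent.Lib.Char.ExtendMain

/-!
Two primes and principal blocks of separable groups: the principal block and its quotient.
-/

set_option autoImplicit false
set_option linter.unusedSectionVars false

open scoped commutatorElement

namespace Cfsg.Agent.Block.TwoPrime

open Cfsg Cfsg.Agent.Char Cfsg.Agent.Block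

universe u

variable {G : Type u} [Group G] [Finite G] {p q : ℕ} [hp : Fact p.Prime]

/-- In a `p`-solvable group the principal block consists of the characters trivial on `O_{p'}`. -/
theorem mem_principal_iff_ker {M : Ideal AlgInt} (hM : IsPModular p M) (hps : IsPSolvable p G)
    (χ : IrrCharacter G) :
    χ ∈ principalBlock M G ↔ ∀ k ∈ pPrimeCore p G, (χ : G → ℂ) k = (χ : G → ℂ) 1 := by
  cases nonempty_fintype G
  haveI : (pPrimeCore p G).Normal := Grp.pPrimeCore_isNormal
  constructor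
  · exact fun h k hk => principal_ker_of_coprime hM Grp.pPrimeCore_not_dvd h hk
  · intro h
    obtain ⟨ψ, hψ, he⟩ := IsIrr.exists_factor_quotient χ.2 (pPrimeCore p G) h
    have hC := Grp.centralizer_pCore_le_of_pSolvable
      (Grp.isPSolvable_map hps (QuotientGroup.mk' _) (QuotientGroup.mk'_surjective _))
      (PPartDerived.pPrimeCore_quotient_eq_bot (p := p) (G := G))
    haveI := Grp.pCore_isNormal (p := p) (G := G ⧸ pPrimeCore p G)
    have hmem : (⟨ψ, hψ⟩ : IrrCharacter (G ⧸ pPrimeCore p G)) ∈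
        principalBlock M (G ⧸ pPrimeCore p G) :=
      pblock_mem_of_sameBlock hM isPBlock_principalBlock (trivial_mem_principalBlock hM)
        (single_block_of_centralizer hM _ Grp.pCore_isPGroup hC (trivialIrr _) ⟨ψ, hψ⟩)
    have h1 := (PrinCol.infl_mem_iff hM (Grp.pPrimeCore_not_dvd (p := p) (G := G))
      (⟨ψ, hψ⟩ : IrrCharacter (G ⧸ pPrimeCore p G))).2 hmem
    have e : PrinCol.infl (⟨ψ, hψ⟩ : IrrCharacter (G ⧸ pPrimeCore p G)) = χ := Subtype.ext (funext he)
    rwa [e] at h1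

/-- Inflation keeps a character in the principal block. -/
theorem infl_mem {M : Ideal AlgInt} (hM : IsPModular p M) (hps : IsPSolvable p G)
    (N : Subgroup G) [N.Normal] (ψ : IrrCharacter (G ⧸ N))
    (hψ : ψ ∈ principalBlock M (G ⧸ N)) :
    (⟨fun g => (ψ : G ⧸ N → ℂ) (QuotientGroup.mk' N g),
      IsIrr.comp_surjective (QuotientGroup.mk' N) (QuotientGroup.mk'_surjective N) ψ.2⟩ : IrrCharacter G)
      ∈ principalBlock M G := by
  rw [mem_principal_iff_ker hM (Grp.isPSolvable_map hps (QuotientGroup.mk' N)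
    (QuotientGroup.mk'_surjective N))] at hψ
  rw [mem_principal_iff_ker hM hps]
  intro k hk
  show (ψ : G ⧸ N → ℂ) (QuotientGroup.mk' N k) = (ψ : G ⧸ N → ℂ) (QuotientGroup.mk' N 1)
  rw [map_one]
  refine hψ _ (Grp.le_pPrimeCore
    (Grp.pPrimeCore_isNormal.map _ (QuotientGroup.mk'_surjective N)) ?_ ⟨k, hk, rfl⟩)
  exact Nat.Coprime.coprime_dvd_left (Subgroup.card_map_dvd _ _) Grp.pPrimeCore_coprime

theorem mk_one (N : Subgroup G) [N.Normal] : ((1 : G) : G ⧸ N) = 1 := rfl

/-- A `q`-subgroup centralizing a Sylow `p`-subgroup lies in `O_{p'}`. -/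
theorem le_pPrimeCore_of_commute (hps : IsPSolvable p G) [hq : Fact q.Prime] (hpq : p ≠ q)
    (P : Sylow p G) (Q : Subgroup G) (hQ : IsPGroup q Q)
    (hcomm : ∀ x ∈ (P : Subgroup G), ∀ y ∈ Q, x * y = y * x) : Q ≤ pPrimeCore p G := by
  haveI : (pPrimeCore p G).Normal := Grp.pPrimeCore_isNormal
  set f := QuotientGroup.mk' (pPrimeCore p G) with hf
  intro y hy
  have hC : f y ∈ pCore p (G ⧸ pPrimeCore p G) := by
    refine Grp.centralizer_pCore_le_of_pSolvable (Grp.isPSolvable_map hps f (QuotientGroup.mk'_surjective _))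
      PPartDerived.pPrimeCore_quotient_eq_bot (Subgroup.mem_centralizer_iff.2 fun c hc => ?_)
    obtain ⟨x, hx, rfl⟩ := Grp.pCore_le_sylow (P.mapSurjective (QuotientGroup.mk'_surjective _)) hc
    rw [← map_mul, ← map_mul, hcomm x hx y hy]
  obtain ⟨i, hi⟩ := IsPGroup.iff_orderOf.1 (Grp.pCore_isPGroup (p := p)
    (G := G ⧸ pPrimeCore p G)) ⟨f y, hC⟩
  obtain ⟨j, hj⟩ := IsPGroup.iff_orderOf.1 hQ ⟨y, hy⟩
  rw [← Subgroup.orderOf_coe] at hi hj
  refine (QuotientGroup.eq_one_iff y).1 (orderOf_eq_one_iff.1 ?_)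
  exact Nat.eq_one_of_dvd_coprimes (Nat.coprime_pow_primes i j hp.out hq.out hpq) (by exact hi ▸ dvd_rfl)
    (hj ▸ orderOf_map_dvd f y)

/-- Commuting Sylow subgroups make the `p'`-degrees of the principal block prime to `q`. -/
theorem not_dvd_of_commute {M : Ideal AlgInt} (hM : IsPModular p M) (hps : IsPSolvable p G)
    [hq : Fact q.Prime] (hpq : p ≠ q) (P : Sylow p G) (Q : Sylow q G)
    (hcomm : ∀ x ∈ (P : Subgroup G), ∀ y ∈ (Q : Subgroup G), x * y = y * x)
    (χ : IrrCharacter G) (hχ : χ ∈ principalBlock M G) : ¬ q ∣ charDegree (χ : G → ℂ) := by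
  haveI : (pPrimeCore p G).Normal := Grp.pPrimeCore_isNormal
  haveI := Fintype.ofFinite (G ⧸ pPrimeCore p G)
  obtain ⟨ψ, hψ, he⟩ := IsIrr.exists_factor_quotient χ.2 (pPrimeCore p G)
    ((mem_principal_iff_ker hM hps χ).1 hχ)
  intro hd
  have h1 : charDegree (χ : G → ℂ) = charDegree ψ := by
    have e := he 1
    rw [mk_one, charDeg_spec' χ, show ψ 1 = (charDegree ψ : ℂ) from charDeg_spec' (⟨ψ, hψ⟩ : IrrCharacter _)] at e
    exact_mod_cast e.symm
  have h2 : charDegree ψ ∣ Nat.card (G ⧸ pPrimeCore p G) :=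
    IsIrr.degree_dvd_card hψ (charDeg_spec' (⟨ψ, hψ⟩ : IrrCharacter _))
  rw [← Subgroup.index_eq_card] at h2
  exact Q.not_dvd_index ((hd.trans (h1 ▸ h2)).trans (Subgroup.index_dvd_of_le
    (le_pPrimeCore_of_commute hps hpq P Q Q.isPGroup' hcomm)))

/-- Degrees pass through constituents of induced characters. -/
theorem exists_pPrime_above [Fintype G] (H : Subgroup G) [Fintype H] (η : IrrCharacter H)
    (hidx : ¬ p ∣ H.index) (hη : ¬ p ∣ charDegree (η : H → ℂ)) :
    ∃ χ : IrrCharacter G, ¬ p ∣ charDegree (χ : G → ℂ) ∧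
      classInner (fun h : H => (χ : G → ℂ) h) (η : H → ℂ) ≠ 0 := by
  obtain ⟨χ, hc, hd⟩ := PPrime.exists_constituent_pPrime (p := p) (isCharacter_indFun H (irr_isChar η))
    (d := H.index * charDegree (η : H → ℂ)) (by rw [indFun_one_eq, charDeg_spec' η, Nat.cast_mul])
    (fun h => (hp.out.dvd_mul.1 h).elim hidx hη)
  refine ⟨χ, hd, ?_⟩
  rw [classInner_indFun H _ (irr_classFun χ), ← classInner_conj_symm, Ne, map_eq_zero] at hc
  exact hc

/-- An invariant character of a normal `p'`-subgroup lies under a character of `p'`-degree. -/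
theorem exists_pPrime_over_invariant [Fintype G] (P : Sylow p G) (L : Subgroup G) [L.Normal]
    [Fintype L] (hLp : ¬ p ∣ Nat.card L) (θ : IrrCharacter L)
    (hinv : ∀ s ∈ (P : Subgroup G), ∀ g g' : L, (g' : G) = s * g * s⁻¹ →
      (θ : L → ℂ) g' = (θ : L → ℂ) g) :
    ∃ χ : IrrCharacter G, ¬ p ∣ charDegree (χ : G → ℂ) ∧
      classInner (fun m : L => (χ : G → ℂ) m) (θ : L → ℂ) ≠ 0 := by
  classical
  set R := L ⊔ (P : Subgroup G) with hR
  haveI := Fintype.ofFinite R
  obtain ⟨k, hk⟩ := PPrime.relIndex_sup_pow P L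
  set LR := L.subgroupOf R with hLR
  haveI : LR.Normal := Subgroup.Normal.subgroupOf inferInstance _
  haveI := Fintype.ofFinite LR
  let e : LR ≃* L := Subgroup.subgroupOfEquivOfLe le_sup_left
  let θR : IrrCharacter LR := ⟨fun m => (θ : L → ℂ) (e m), IsIrr.comp_mulEquiv e θ.2⟩
  set d := charDegree (θ : L → ℂ) with hd
  have hdθ : (θR : LR → ℂ) 1 = d := by
    show (θ : L → ℂ) (e 1) = _
    rw [map_one, charDeg_spec' θ]
  have hstab : ∀ (g : R) (n : LR), (θR : LR → ℂ) ⟨g * n * g⁻¹,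
      (inferInstance : LR.Normal).conj_mem (n : R) n.2 g⟩ = (θR : LR → ℂ) n := by
    have hI : (⊤ : Subgroup R) ≤ inertia LR (θR : LR → ℂ) := by
      rw [← Subgroup.subgroupOf_self R]
      intro g _
      have h1 : L.subgroupOf R ⊔ (P : Subgroup G).subgroupOf R = ⊤ := by
        rw [← Subgroup.subgroupOf_sup le_sup_left le_sup_right, Subgroup.subgroupOf_self]
      have h2 : L.subgroupOf R ⊔ (P : Subgroup G).subgroupOf R ≤ inertia LR (θR : LR → ℂ) := by
        refine sup_le (le_inertia LR (IsIrr.classFun θR.2)) fun s hs => ?_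
        rw [mem_inertia]
        funext m
        exact hinv (s : G) hs (e m) _ rfl
      exact h2 (h1 ▸ Subgroup.mem_top g)
    intro g n
    exact congrFun ((mem_inertia LR).1 (hI (Subgroup.mem_top g))) n
  have hLcard : ∀ {m : ℕ}, m ∣ Nat.card L → Nat.Coprime (p ^ k) m := fun hm =>
    ((hp.out.coprime_iff_not_dvd).2 fun h => hLp (h.trans hm)).pow_left k
  have hdet : orderOf (detChar (θR : LR → ℂ)) ∣ Nat.card L := by
    obtain ⟨l, hl⟩ := isCharacter_detChar θR.2
    refine orderOf_dvd_of_pow_eq_one (funext fun m => ?_)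
    rw [hl, Pi.pow_apply, ← Nat.card_congr e.toEquiv, ← Units.val_pow_eq_pow_val, ← map_pow,
      pow_card_eq_one', map_one]
    rfl
  have hidx : LR.index = p ^ k := hk
  obtain ⟨η, hη, hres⟩ := Ext.exists_extension_of_witness θR.2 hstab hdθ fun r hr =>
    Ext.witness_of_coprime θR.2 (by
      rw [hidx]
      exact Nat.Coprime.mul_right (hLcard hdet) (hLcard (CopDeg.degree_dvd_card' θ))) hr
  have hη1 : charDegree η = d := by
    have h1 := hres 1
    rw [hdθ, Subgroup.coe_one, show η 1 = (charDegree η : ℂ) from charDeg_spec' (⟨η, hη⟩ : IrrCharacter R)] at h1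
    exact_mod_cast h1
  obtain ⟨χ, hχd, hχ⟩ := exists_pPrime_above (p := p) R ⟨η, hη⟩
    (fun h => P.not_dvd_index (h.trans (Subgroup.index_dvd_of_le le_sup_right)))
    (by rw [show charDegree ((⟨η, hη⟩ : IrrCharacter R) : R → ℂ) = d from hη1]
        exact fun h => hLp (h.trans (CopDeg.degree_dvd_card' θ)))
  refine ⟨χ, hχd, ?_⟩
  have h1 := PPartDerived.res_trans LR.subtype (IsChar.res (irr_isChar χ) R) ⟨η, hη⟩ θR hχ (by
    show classInner (fun m : LR => η m) (θR : LR → ℂ) ≠ 0
    rw [show (fun m : LR => η m) = (θR : LR → ℂ) from funext hres, classInner_self_irr θR.2]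
    exact one_ne_zero)
  intro h0
  refine h1 ?_
  rw [← h0, ← classInner_comp_surjective e.toMonoidHom e.surjective]
  rfl

/-- A subgroup of index prime to `q` contains a Sylow `q`-subgroup of every normal subgroup. -/
theorem relIndex_dvd_index' (U I : Subgroup G) [U.Normal] : I.relIndex U ∣ I.index := by
  have h1 : U.relIndex (U ⊔ I) = U.relIndex I := Subgroup.relIndex_sup_left I U
  have h2 := Subgroup.relIndex_mul_relIndex (U ⊓ I) U (U ⊔ I) inf_le_left le_sup_left
  have h3 := Subgroup.relIndex_mul_relIndex (U ⊓ I) I (U ⊔ I) inf_le_right le_sup_right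
  rw [h1] at h2
  rw [← h2, Subgroup.inf_relIndex_left, Subgroup.inf_relIndex_right, mul_comm (I.relIndex U)] at h3
  rw [← mul_left_cancel₀ (Nat.card_pos (α := I ⧸ U.subgroupOf I)).ne' h3]
  exact Subgroup.relIndex_dvd_index_of_le le_sup_right

theorem sylow_commute_pow_disjoint [hq : Fact q.Prime] (hpq : p ≠ q) {A B : Subgroup G}
    (hA : IsPGroup p A) (hB : IsPGroup q B) : A ⊓ B = ⊥ :=
  (IsPGroup.disjoint_of_ne p q hpq A B hA hB).eq_bot

end Cfsg.Agent.Block.TwoPrime
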