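import Cfsg.Agent.Lib.Block.TwoPrime.Orbit
import Cfsg.Agent.Lib.Grp.Frattini

/-!
Two primes and principal blocks of separable groups: `p'`-degrees and `q'`-degrees in the principal
blocks agree exactly when Sylow subgroups commute.
-/

set_option autoImplicit false
set_option linter.unusedSectionVars false

open scoped commutatorElement Pointwise

namespace Cfsg.Agent.Block.TwoPrime

open Cfsg Cfsg.Agent.Char Cfsg.Agent.Block

universe u

variable {G : Type u} [Group G] [Finite G] {p q : ℕ} [hp : Fact p.Prime] [hq : Fact q.Prime]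

/-- Degrees prime to `p` in the principal `p`-block are prime to `q`. -/
def Cond (M : Ideal AlgInt) (p q : ℕ) (G : Type u) [Group G] : Prop :=
  ∀ χ : IrrCharacter G, χ ∈ principalBlock M G → ¬ p ∣ charDegree (χ : G → ℂ) →
    ¬ q ∣ charDegree (χ : G → ℂ)

theorem cond_quotient {M : Ideal AlgInt} (hM : IsPModular p M) (hps : IsPSolvable p G)
    (h : Cond M p q G) (N : Subgroup G) [N.Normal] : Cond M p q (G ⧸ N) := by
  intro χ hχ hd
  have h1 := h _ (infl_mem hM hps N χ hχ)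
  have e : charDegree (fun g : G => (χ : (G ⧸ N) → ℂ) (QuotientGroup.mk' N g)) =
      charDegree (χ : (G ⧸ N) → ℂ) := by simp [charDegree]
  rw [e] at h1
  exact h1 hd

/-- A coprime operator acting trivially on `P/P'` acts trivially on the `p`-group `P`. -/
theorem le_centralizer_of_commutator_le (hpq : p ≠ q) (P Q : Subgroup G) (hP : IsPGroup p P)
    (hQ : IsPGroup q Q) (hnorm : Q ≤ Subgroup.normalizer (P : Set G)) (h : ⁅P, Q⁆ ≤ ⁅P, P⁆) :
    Q ≤ Subgroup.centralizer (P : Set G) := by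
  have hcop : (Nat.card Q).Coprime (Nat.card P) := by
    obtain ⟨i, hi⟩ := IsPGroup.iff_card.1 hQ
    obtain ⟨j, hj⟩ := IsPGroup.iff_card.1 hP
    rw [hi, hj]
    exact Nat.coprime_pow_primes i j hq.out hp.out hpq.symm
  have hsolv : Group.IsSolvable Q := by
    haveI := hQ.isNilpotent
    infer_instance
  set C := P ⊓ Subgroup.centralizer (Q : Set G) with hC
  have h1 := Cfsg.Agent.Grp.commutator_sup_fixed Q P hnorm hcop (Or.inl hsolv)
  have h2 : C.subgroupOf P ⊔ commutator P = ⊤ := by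
    refine Subgroup.map_injective P.subtype_injective ?_
    rw [Subgroup.map_sup, Subgroup.map_subtype_commutator, Subgroup.map_subgroupOf_eq_of_le inf_le_left,
      ← MonoidHom.range_eq_map, P.range_subtype]
    refine le_antisymm (sup_le inf_le_left (Subgroup.commutator_le_self P)) ?_
    conv_lhs => rw [← h1]
    exact sup_le (h.trans le_sup_right) le_sup_left
  have h3 : C.subgroupOf P = ⊤ := frattini_nongenerating
    (top_le_iff.1 (h2.ge.trans (sup_le_sup_left (Cfsg.Agent.Grp.pGroup_commutator_le_frattini hP) _)))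
  intro y hy
  rw [Subgroup.mem_centralizer_iff]
  intro x hx
  have h4 : (⟨x, hx⟩ : P) ∈ C.subgroupOf P := h3 ▸ Subgroup.mem_top _
  exact (Subgroup.mem_centralizer_iff.1 (Subgroup.mem_inf.1 h4).2 y hy).symm

/-- Inside a normal `p`-subgroup: commuting modulo it gives commuting. -/
theorem centralizes_of_quotient (hps : IsPSolvable p G) (hqs : IsPSolvable q G) (hpq : p ≠ q)
    (hdeg : ∀ χ : IrrCharacter G, ¬ p ∣ charDegree (χ : G → ℂ) → ¬ q ∣ charDegree (χ : G → ℂ))
    (N : Subgroup G) [N.Normal] (hNp : IsPGroup p N) (P : Sylow p G) (Q : Sylow q G)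
    (hcomm : ∀ x ∈ (P : Subgroup G), ∀ y ∈ (Q : Subgroup G), x * y * x⁻¹ * y⁻¹ ∈ N) :
    ∀ x ∈ (P : Subgroup G), ∀ y ∈ (Q : Subgroup G), x * y = y * x := by
  classical
  letI : Fintype G := Fintype.ofFinite G
  set π := QuotientGroup.mk' N with hπ
  have hπs : Function.Surjective π := QuotientGroup.mk'_surjective N
  have hker : π.ker = N := QuotientGroup.ker_mk' N
  have hNP : N ≤ (P : Subgroup G) :=
    (Cfsg.Agent.Grp.le_pCore inferInstance hNp).trans (Cfsg.Agent.Grp.pCore_le_sylow P)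
  set P' := P.mapSurjective hπs with hP'
  set Q' := Q.mapSurjective hπs with hQ'
  have hcomm' : ∀ x ∈ (P' : Subgroup (G ⧸ N)), ∀ y ∈ (Q' : Subgroup (G ⧸ N)), x * y = y * x := by
    rintro _ ⟨a, ha, rfl⟩ _ ⟨b, hb, rfl⟩
    have h1 : π (a * b * a⁻¹ * b⁻¹) = 1 := (QuotientGroup.eq_one_iff _).2 (hcomm a ha b hb)
    rw [map_mul, map_mul, map_mul, map_inv, map_inv, mul_inv_eq_one, mul_inv_eq_iff_eq_mul] at h1
    exact h1
  have hps' := Cfsg.Agent.Grp.isPSolvable_map hps π hπs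
  have hqs' := Cfsg.Agent.Grp.isPSolvable_map hqs π hπs
  set R := pPrimeCore p (G ⧸ N) with hR
  haveI hRn : R.Normal := Cfsg.Agent.Grp.pPrimeCore_isNormal
  have hQR : (Q' : Subgroup (G ⧸ N)) ≤ R := le_pPrimeCore_of_commute hps' hpq P' _ Q'.isPGroup' hcomm'
  have hRp : ¬ p ∣ Nat.card R := Cfsg.Agent.Grp.pPrimeCore_not_dvd
  have hdeg' : ∀ χ : IrrCharacter (G ⧸ N), ¬ p ∣ charDegree (χ : G ⧸ N → ℂ) →
      ¬ q ∣ charDegree (χ : G ⧸ N → ℂ) := fun χ hχ => by
    have h := hdeg ⟨_, IsIrr.comp_surjective π hπs χ.2⟩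
    have e : charDegree (fun g : G => (χ : (G ⧸ N) → ℂ) (π g)) =
        charDegree (χ : (G ⧸ N) → ℂ) := by simp [charDegree]
    rw [show charDegree ((⟨_, IsIrr.comp_surjective π hπs χ.2⟩ : IrrCharacter G) : G → ℂ) =
      charDegree (χ : (G ⧸ N) → ℂ) from e] at h
    exact h hχ
  have hQnorm : (Q : Subgroup G) ≤ Subgroup.normalizer ((P : Subgroup G) : Set G) := fun y hy =>
    mem_normalizer_of_conj_mem fun x hx => by
      have h2 := inv_mem (hNP (hcomm x hx y hy))
      rw [show y * x * y⁻¹ = (x * y * x⁻¹ * y⁻¹)⁻¹ * x by group]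
      exact mul_mem h2 hx
  -- every linear character of `P` kills `⁅P, Q⁆`
  have hlin : ∀ (μ : (P : Subgroup G) →* ℂˣ) (x : G) (hx : x ∈ (P : Subgroup G)) (y : G),
      y ∈ (Q : Subgroup G) → ∀ h : x * y * x⁻¹ * y⁻¹ ∈ (P : Subgroup G), μ ⟨_, h⟩ = 1 := by
    intro μ x hx y hy hmem
    letI : Fintype (P : Subgroup G) := Fintype.ofFinite _
    letI : Fintype N := Fintype.ofFinite _
    let lam : N →* ℂˣ := μ.comp (Subgroup.inclusion hNP)
    set θ : N → ℂ := fun n => (lam n : ℂ) with hθdef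
    have hθ : IsIrrCharacter N θ := isIrr_linear lam
    let η : IrrCharacter (P : Subgroup G) := ⟨fun z => (μ z : ℂ), isIrr_linear μ⟩
    obtain ⟨χ, hχd, hχ⟩ := exists_pPrime_above (p := p) (P : Subgroup G) η P.not_dvd_index (by
      show ¬ p ∣ charDegree (fun z : (P : Subgroup G) => (μ z : ℂ))
      simp [charDegree, hp.out.ne_one])
    have hχN : classInner (fun n : N => (χ : G → ℂ) n) θ ≠ 0 := by
      have h1 := PPartDerived.res_trans (Subgroup.inclusion hNP) (IsChar.res (irr_isChar χ) _) η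
        ⟨θ, hθ⟩ hχ (by
          show classInner (fun n : N => (μ (Subgroup.inclusion hNP n) : ℂ)) θ ≠ 0
          exact (classInner_self_irr hθ).symm ▸ one_ne_zero)
      exact h1
    set I := inertia N θ with hI
    have hIq : ¬ q ∣ I.index := by
      intro h
      refine hdeg χ hχd ?_
      obtain ⟨m, hm⟩ := IsChar.classInner_nat (IsChar.res (irr_isChar χ) N) (IsIrr.isCharacter hθ)
      have h1 := clifford_one N χ.2 hθ hχN
      rw [hm, charDeg_spec' χ, show θ 1 = 1 by simp [hθdef], mul_one, ← Nat.cast_mul, Nat.cast_inj] at h1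
      rw [h1]
      exact h.mul_left _
    have hPI : (P : Subgroup G) ≤ I := by
      intro a ha
      rw [hI, mem_inertia]
      funext n
      show (μ ⟨a * n * a⁻¹, _⟩ : ℂ) = (μ ⟨n, _⟩ : ℂ)
      have e : (⟨a * n * a⁻¹, hNP ((inferInstance : N.Normal).conj_mem _ n.2 a)⟩ : (P : Subgroup G)) =
          ⟨a, ha⟩ * ⟨n, hNP n.2⟩ * ⟨a, ha⟩⁻¹ := rfl
      rw [e, map_mul, map_mul, map_inv, mul_inv_cancel_comm]
    have hNI : N ≤ I := hNP.trans hPI
    -- `Q` fixes the character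
    set I' := I.map π with hI'
    set J := I' ⊓ R with hJ
    have hIidx : ¬ q ∣ I'.index := fun h => hIq (by
      rw [← show I'.comap π = I by rw [hI', Subgroup.comap_map_eq_self]; rw [hker]; exact hNI,
        Subgroup.index_comap_of_surjective _ hπs]
      exact h)
    have hsolvP : Group.IsSolvable (P' : Subgroup (G ⧸ N)) := by
      haveI := P'.isPGroup'.isNilpotent
      infer_instance
    have hcopR : (Nat.card (P' : Subgroup (G ⧸ N))).Coprime (Nat.card R) := by
      obtain ⟨i, hi⟩ := IsPGroup.iff_card.1 P'.isPGroup'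
      rw [hi]
      exact ((hp.out.coprime_iff_not_dvd).2 hRp).pow_left i
    have hPI' : (P' : Subgroup (G ⧸ N)) ≤ I' := Subgroup.map_mono hPI
    have hPJ : (P' : Subgroup (G ⧸ N)) ≤ Subgroup.normalizer (J : Set (G ⧸ N)) := fun a ha =>
      mem_normalizer_of_conj_mem fun z hz => Subgroup.mem_inf.2
        ⟨I'.mul_mem (I'.mul_mem (hPI' ha) hz.1) (I'.inv_mem (hPI' ha)), hRn.conj_mem z hz.2 a⟩
    obtain ⟨X, hX, hXP⟩ := Cfsg.Agent.Grp.exists_invariant_sylow (P' : Subgroup (G ⧸ N)) J hPJ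
      (hcopR.coprime_dvd_right (Subgroup.card_dvd_of_le inf_le_right)) (Or.inl hsolvP) q
    have hXR : Cfsg.Agent.Grp.IsSylowIn q X R := by
      refine ⟨hX.1.trans inf_le_right, hX.2.1, fun h => ?_⟩
      rw [← Subgroup.relIndex_mul_relIndex X J R hX.1 inf_le_right] at h
      rcases hq.out.dvd_mul.1 h with h | h
      · exact hX.2.2 h
      · rw [hJ, Subgroup.inf_relIndex_right] at h
        exact hIidx (h.trans (relIndex_dvd_index' R I'))
    obtain ⟨c, hc, hcX⟩ := Cfsg.Agent.Grp.invariant_sylow_conj (P' : Subgroup (G ⧸ N)) R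
      (fun a _ => Subgroup.normalizer_eq_top_iff.2 hRn ▸ Subgroup.mem_top a) hcopR (Or.inl hsolvP)
      (X := (Q' : Subgroup (G ⧸ N)))
      ⟨hQR, Q'.isPGroup', fun h => Q'.not_dvd_index (h.trans (Subgroup.relIndex_dvd_index_of_le hQR))⟩
      hXR (fun a ha => mem_normalizer_of_conj_mem fun z hz => by
        rw [hcomm' a ha z hz, mul_inv_cancel_right]; exact hz) hXP
    obtain ⟨hcR, hcP⟩ := Subgroup.mem_inf.1 hc
    rw [normalizes (p := p) (q := q) (Nat.card (G ⧸ N)) (G ⧸ N) le_rfl hqs' hdeg' P' Q' hcomm' R hRn hRp hQR c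
      hcR hcP] at hcX
    have hyI : y ∈ I := by
      have h1 : π y ∈ I' := (hX.1.trans inf_le_left) (hcX ▸ (⟨y, hy, rfl⟩ : π y ∈ (Q : Subgroup G).map π))
      obtain ⟨i, hi, e⟩ := h1
      have h2 : i⁻¹ * y ∈ N := QuotientGroup.eq.1 e
      simpa using I.mul_mem hi (hNI h2)
    -- iteration
    let cy : ↥(P : Subgroup G) → ↥(P : Subgroup G) := fun a =>
      ⟨y * a * y⁻¹, (Subgroup.mem_normalizer_iff.1 (hQnorm hy) (a : G)).1 a.2⟩
    have hcy : ∀ n : N, μ (cy (Subgroup.inclusion hNP n)) = μ (Subgroup.inclusion hNP n) := by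
      intro n
      refine Units.ext ?_
      exact congrFun ((mem_inertia N).1 hyI) n
    set z : (P : Subgroup G) := ⟨_, hmem⟩ with hz
    set a₀ : (P : Subgroup G) := ⟨x, hx⟩ with ha₀
    have hstep : μ (cy a₀) = (μ z)⁻¹ * μ a₀ := by
      rw [← map_inv, ← map_mul]
      refine congrArg μ (Subtype.ext ?_)
      show y * x * y⁻¹ = (x * y * x⁻¹ * y⁻¹)⁻¹ * x
      group
    have hcymul : ∀ a b : (P : Subgroup G), cy (a * b) = cy a * cy b := fun a b => Subtype.ext (by
      show y * ((a : G) * b) * y⁻¹ = (y * a * y⁻¹) * (y * b * y⁻¹)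
      group)
    have hiter : ∀ n : ℕ, μ (cy^[n] a₀) = ((μ z)⁻¹) ^ n * μ a₀ ∧
        ∃ d : N, cy^[n] a₀ = Subgroup.inclusion hNP d * a₀ := by
      intro n
      induction n with
      | zero => exact ⟨by simp, 1, by simp⟩
      | succ n ihn =>
        obtain ⟨h1, d, hd⟩ := ihn
        have hzN : (z : G)⁻¹ ∈ N := inv_mem (hcomm x hx y hy)
        refine ⟨?_, ⟨y * d * y⁻¹ * (z : G)⁻¹, N.mul_mem
          ((inferInstance : N.Normal).conj_mem _ d.2 y) hzN⟩, ?_⟩
        · rw [Function.iterate_succ_apply', hd, hcymul, map_mul, hcy, hstep]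
          rw [hd, map_mul] at h1
          rw [mul_left_comm, h1, ← mul_assoc, ← pow_succ']
        · rw [Function.iterate_succ_apply', hd, hcymul]
          refine Subtype.ext ?_
          show (y * (d : G) * y⁻¹) * (y * x * y⁻¹) = y * (d : G) * y⁻¹ * (x * y * x⁻¹ * y⁻¹)⁻¹ * x
          group
    have hid : ∀ n : ℕ, ((cy^[n] a₀ : (P : Subgroup G)) : G) = y ^ n * x * (y ^ n)⁻¹ := by
      intro n
      induction n with
      | zero => simp [ha₀]
      | succ n ihn =>
        rw [Function.iterate_succ_apply', pow_succ']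
        show y * ((cy^[n] a₀ : (P : Subgroup G)) : G) * y⁻¹ = _
        rw [ihn]
        group
    have h0 := (hiter (orderOf y)).1
    rw [show cy^[orderOf y] a₀ = a₀ from Subtype.ext (by rw [hid, pow_orderOf_eq_one]; simp [ha₀]),
      right_eq_mul, inv_pow, inv_eq_one] at h0
    obtain ⟨i, hi⟩ := IsPGroup.iff_orderOf.1 P.isPGroup' z
    obtain ⟨j, hj⟩ := IsPGroup.iff_orderOf.1 Q.isPGroup' ⟨y, hy⟩
    rw [← Subgroup.orderOf_coe] at hj
    exact orderOf_eq_one_iff.1 (Nat.eq_one_of_dvd_coprimes (Nat.coprime_pow_primes i j hp.out hq.out hpq)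
      (hi ▸ orderOf_map_dvd μ z) (hj ▸ orderOf_dvd_of_pow_eq_one h0))
  have hle : ⁅(P : Subgroup G), (Q : Subgroup G)⁆ ≤ ⁅(P : Subgroup G), (P : Subgroup G)⁆ := by
    rw [Subgroup.commutator_le]
    intro x hx y hy
    have hmem : x * y * x⁻¹ * y⁻¹ ∈ (P : Subgroup G) := hNP (hcomm x hx y hy)
    have h1 : Abelianization.of (⟨_, hmem⟩ : (P : Subgroup G)) = 1 :=
      eq_one_of_forall_linear (fun a b => mul_comm a b)
        (fun l => hlin (l.comp Abelianization.of) x hx y hy hmem)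
    have h2 : (⟨_, hmem⟩ : (P : Subgroup G)) ∈ commutator (P : Subgroup G) :=
      (QuotientGroup.eq_one_iff _).1 h1
    rw [← Subgroup.map_subtype_commutator]
    exact ⟨_, h2, rfl⟩
  intro x hx y hy
  exact Subgroup.mem_centralizer_iff.1
    (le_centralizer_of_commutator_le hpq _ _ P.isPGroup' Q.isPGroup' hQnorm hle hy) x hx

/-- The inductive step for a minimal normal subgroup of order prime to both primes. -/
theorem com_of_coprime (hpq : p ≠ q) (N : Subgroup G) [N.Normal] (hNp : ¬ p ∣ Nat.card N)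
    (hNq : ¬ q ∣ Nat.card N) (P : Sylow p G) (Q : Sylow q G)
    (hcomm : ∀ x ∈ (P : Subgroup G), ∀ y ∈ (Q : Subgroup G), x * y * x⁻¹ * y⁻¹ ∈ N) :
    ∃ (P : Sylow p G) (Q : Sylow q G),
      ∀ x ∈ (P : Subgroup G), ∀ y ∈ (Q : Subgroup G), x * y = y * x := by
  classical
  set π := QuotientGroup.mk' N with hπ
  have hπs : Function.Surjective π := QuotientGroup.mk'_surjective N
  set A := (P : Subgroup G).map π with hA
  set B := (Q : Subgroup G).map π with hB
  have hAB : ∀ a ∈ A, ∀ b ∈ B, a * b = b * a := by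
    rintro _ ⟨a, ha, rfl⟩ _ ⟨b, hb, rfl⟩
    have h1 : π (a * b * a⁻¹ * b⁻¹) = 1 := (QuotientGroup.eq_one_iff _).2 (hcomm a ha b hb)
    rw [map_mul, map_mul, map_mul, map_inv, map_inv, mul_inv_eq_one, mul_inv_eq_iff_eq_mul] at h1
    exact h1
  have hAp : IsPGroup p A := P.isPGroup'.map _
  have hBq : IsPGroup q B := Q.isPGroup'.map _
  set S := A ⊔ B with hS
  set H := S.comap π with hH
  have hNH : N ≤ H := fun z hz => by
    show π z ∈ S
    rw [show π z = 1 from (QuotientGroup.eq_one_iff z).2 hz]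
    exact S.one_mem
  haveI : (N.subgroupOf H).Normal := Subgroup.Normal.subgroupOf inferInstance H
  have hidx : (N.subgroupOf H).index = Nat.card S := by
    show N.relIndex H = _
    have h := Subgroup.relIndex_comap (⊥ : Subgroup (G ⧸ N)) π H
    rw [MonoidHom.comap_bot, QuotientGroup.ker_mk'] at h
    rw [h, hH, Subgroup.map_comap_eq_self_of_surjective hπs, Subgroup.relIndex_bot_left]
  have hSdiv : Nat.card S ∣ Nat.card A * Nat.card B := by
    have hBA : B ≤ Subgroup.normalizer (A : Set (G ⧸ N)) := fun b hb =>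
      mem_normalizer_of_conj_mem fun a ha => by rw [← hAB a ha b hb, mul_inv_cancel_right]; exact ha
    rw [hS, sup_comm, mul_comm]
    exact Dvd.intro _ (Cfsg.Agent.Grp.card_sup_mul_card_inf hBA)
  have hcop : Nat.Coprime (Nat.card (N.subgroupOf H)) (N.subgroupOf H).index := by
    rw [hidx, Nat.card_congr (Subgroup.subgroupOfEquivOfLe hNH).toEquiv]
    refine Nat.Coprime.coprime_dvd_right hSdiv ?_
    obtain ⟨i, hi⟩ := IsPGroup.iff_card.1 hAp
    obtain ⟨j, hj⟩ := IsPGroup.iff_card.1 hBq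
    rw [hi, hj]
    exact Nat.Coprime.mul_right (((hp.out.coprime_iff_not_dvd).2 hNp).symm.pow_right i)
      (((hq.out.coprime_iff_not_dvd).2 hNq).symm.pow_right j)
  obtain ⟨C₀, hC₀⟩ := Subgroup.exists_right_complement'_of_coprime hcop
  set C := C₀.map H.subtype with hC
  have hCH : C ≤ H := Subgroup.map_subtype_le _
  have hCN : ∀ z ∈ C, z ∈ N → z = 1 := by
    rintro _ ⟨c, hc, rfl⟩ hzN
    have h1 : c ∈ N.subgroupOf H ⊓ C₀ := ⟨hzN, hc⟩
    rw [hC₀.disjoint.eq_bot, Subgroup.mem_bot] at h1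
    rw [h1, map_one]
  have hlift : ∀ s ∈ S, ∃ z ∈ C, π z = s := by
    intro s hs
    obtain ⟨g, rfl⟩ := hπs s
    obtain ⟨⟨⟨n, hn⟩, ⟨c, hc⟩⟩, e⟩ := hC₀.surjective (⟨g, hs⟩ : H)
    refine ⟨(c : G), ⟨c, hc, rfl⟩, ?_⟩
    have e' : (n : G) * (c : G) = g := congrArg Subtype.val e
    rw [← e', map_mul, show π (n : G) = 1 from (QuotientGroup.eq_one_iff _).2 hn, one_mul]
  -- the lifts
  have hsub : ∀ (r : ℕ) [Fact r.Prime] (D : Subgroup (G ⧸ N)) (T : Sylow r G), D ≤ S → ¬ r ∣ Nat.card N →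
      (T : Subgroup G).map π = D → ∃ T' : Sylow r G, ∀ z ∈ (T' : Subgroup G), z ∈ C ∧ π z ∈ D := by
    intro r _ D T hDS hNr hTD
    set E := C ⊓ D.comap π with hE
    have hinj : Function.Injective (π.comp E.subtype) := fun a b hab => Subtype.ext (by
      have h1 : (a : G)⁻¹ * b ∈ N := QuotientGroup.eq.1 hab
      exact inv_mul_eq_one.1 (hCN _ (C.mul_mem (C.inv_mem a.2.1) b.2.1) h1))
    have hrange : (π.comp E.subtype).range = D := by
      refine le_antisymm ?_ fun d hd => ?_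
      · rintro _ ⟨e, rfl⟩; exact e.2.2
      · obtain ⟨z, hz, rfl⟩ := hlift d (hDS hd)
        exact ⟨⟨z, hz, hd⟩, rfl⟩
    have hcardE : Nat.card E = Nat.card (T : Subgroup G) := by
      rw [Nat.card_congr (MonoidHom.ofInjective hinj).toEquiv, hrange, ← hTD]
      have hinjT : Function.Injective (π.comp (T : Subgroup G).subtype) := fun a b hab => Subtype.ext (by
        have h1 : (a : G)⁻¹ * b ∈ N := QuotientGroup.eq.1 hab
        obtain ⟨i, hi⟩ := IsPGroup.iff_orderOf.1 T.isPGroup' (a⁻¹ * b)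
        rw [← Subgroup.orderOf_coe] at hi
        rcases Nat.eq_zero_or_pos i with rfl | hi0
        · exact inv_mul_eq_one.1 (orderOf_eq_one_iff.1 (hi.trans (pow_zero r)))
        · exact absurd ((dvd_pow_self r hi0.ne').trans (hi ▸ N.orderOf_dvd_natCard h1)) hNr)
      rw [Nat.card_congr (MonoidHom.ofInjective hinjT).toEquiv, MonoidHom.range_comp, Subgroup.range_subtype]
    refine ⟨Sylow.ofCard E (by rw [hcardE, T.card_eq_multiplicity]), fun z hz => ?_⟩
    exact hz
  obtain ⟨P', hP'⟩ := hsub p A P le_sup_left hNp rfl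
  obtain ⟨Q', hQ'⟩ := hsub q B Q le_sup_right hNq rfl
  refine ⟨P', Q', fun x hx y hy => ?_⟩
  obtain ⟨hxC, hxA⟩ := hP' x hx
  obtain ⟨hyC, hyB⟩ := hQ' y hy
  have h1 : x * y * x⁻¹ * y⁻¹ ∈ N := by
    rw [← QuotientGroup.ker_mk' N, MonoidHom.mem_ker]
    show π (x * y * x⁻¹ * y⁻¹) = 1
    rw [map_mul, map_mul, map_mul, map_inv, map_inv, hAB _ hxA _ hyB, mul_inv_cancel_right, mul_inv_cancel]
  have h2 := hCN _ (C.mul_mem (C.mul_mem (C.mul_mem hxC hyC) (C.inv_mem hxC)) (C.inv_mem hyC)) h1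
  exact mul_inv_eq_iff_eq_mul.1 (mul_inv_eq_one.1 h2)

/-- The conditions on both principal blocks give commuting Sylow subgroups. -/
theorem com_of_cond : ∀ (k : ℕ) (G : Type u) [Group G] [Finite G], Nat.card G ≤ k →
    ∀ (p q : ℕ) [Fact p.Prime] [Fact q.Prime], p ≠ q →
    ∀ (Mp Mq : Ideal AlgInt), IsPModular p Mp → IsPModular q Mq →
    IsPSolvable p G → IsPSolvable q G → Cond Mp p q G → Cond Mq q p G →
    ∃ (P : Sylow p G) (Q : Sylow q G),
      ∀ x ∈ (P : Subgroup G), ∀ y ∈ (Q : Subgroup G), x * y = y * x := by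
  intro k
  induction k with
  | zero =>
    intro G _ _ h
    have := Nat.card_pos (α := G)
    omega
  | succ k ih =>
    intro G _ _ hk p q _ _ hpq Mp Mq hMp hMq hps hqs hcp hcq
    classical
    by_cases htriv : (⊤ : Subgroup G) = ⊥
    · refine ⟨default, default, fun x _ y _ => ?_⟩
      have hx1 : x = 1 := Subgroup.mem_bot.1 (htriv ▸ Subgroup.mem_top x)
      rw [hx1, one_mul, mul_one]
    -- the step for a minimal normal subgroup
    have hquot : ∀ N : Subgroup G, ∀ _ : N.Normal, N ≠ ⊥ → ∃ (P : Sylow p G) (Q : Sylow q G),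
        ∀ x ∈ (P : Subgroup G), ∀ y ∈ (Q : Subgroup G), x * y * x⁻¹ * y⁻¹ ∈ N := by
      intro N hN hN0
      have hπs : Function.Surjective (QuotientGroup.mk' N) := QuotientGroup.mk'_surjective N
      obtain ⟨P₁, Q₁, h⟩ := ih (G ⧸ N) (by have := Cfsg.Agent.Grp.card_quotient_lt hN0; omega) p q hpq
        Mp Mq hMp hMq (Cfsg.Agent.Grp.isPSolvable_map hps _ hπs) (Cfsg.Agent.Grp.isPSolvable_map hqs _ hπs)
        (cond_quotient hMp hps hcp N) (cond_quotient hMq hqs hcq N)
      obtain ⟨P, rfl⟩ := Sylow.mapSurjective_surjective hπs p P₁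
      obtain ⟨Q, rfl⟩ := Sylow.mapSurjective_surjective hπs q Q₁
      refine ⟨P, Q, fun x hx y hy => ?_⟩
      rw [← QuotientGroup.ker_mk' N, MonoidHom.mem_ker, map_mul, map_mul, map_mul, map_inv, map_inv,
        h _ ⟨x, hx, rfl⟩ _ ⟨y, hy, rfl⟩, mul_inv_cancel_right, mul_inv_cancel]
    by_cases hthird : ∃ N : Subgroup G, N.Normal ∧ N ≠ ⊥ ∧ ¬ p ∣ Nat.card N ∧ ¬ q ∣ Nat.card N
    · obtain ⟨N, hN, hN0, hNp, hNq⟩ := hthird
      obtain ⟨P, Q, h⟩ := hquot N hN hN0
      haveI := hN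
      exact com_of_coprime hpq N hNp hNq P Q h
    push Not at hthird
    have hcase : ∀ N : Subgroup G, N.Normal → N ≠ ⊥ →
        (∀ K : Subgroup G, K.Normal → K ≤ N → K = ⊥ ∨ K = N) → IsPGroup p N ∨ IsPGroup q N := by
      intro N hN hN0 hmin
      haveI := hN
      rcases minimal_cases hps hN0 hmin with h | h
      · exact Or.inl h
      rcases minimal_cases hqs hN0 hmin with h' | h'
      · exact Or.inr h'
      exact absurd (hthird N hN hN0 h) h'
    by_cases hboth : (∃ N : Subgroup G, N.Normal ∧ N ≠ ⊥ ∧ IsPGroup p N) ∧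
        ∃ M : Subgroup G, M.Normal ∧ M ≠ ⊥ ∧ IsPGroup q M
    · -- normal subgroups of both kinds
      obtain ⟨⟨N, hN, hN0, hNp⟩, M, hM, hM0, hMq'⟩ := hboth
      obtain ⟨P, Q, h⟩ := hquot N hN hN0
      obtain ⟨P', Q', h'⟩ := hquot M hM hM0
      haveI := hN; haveI := hM
      have hNle : ∀ T : Sylow p G, N ≤ (T : Subgroup G) := fun T =>
        (Cfsg.Agent.Grp.le_pCore hN hNp).trans (Cfsg.Agent.Grp.pCore_le_sylow T)
      have hNM : N ⊓ M = ⊥ := sylow_commute_pow_disjoint hpq hNp hMq'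
      have hQ'N : (Q' : Subgroup G) ≤ Subgroup.centralizer (N : Set G) := by
        intro y hy
        rw [Subgroup.mem_centralizer_iff]
        intro n hn
        have h1 : n * y * n⁻¹ * y⁻¹ ∈ N ⊓ M := Subgroup.mem_inf.2 ⟨by
          rw [show n * y * n⁻¹ * y⁻¹ = n * (y * n⁻¹ * y⁻¹) by group]
          exact mul_mem hn (hN.conj_mem _ (inv_mem hn) y), h' n (hNle P' hn) y hy⟩
        rw [hNM, Subgroup.mem_bot, mul_inv_eq_one, mul_inv_eq_iff_eq_mul] at h1
        exact h1
      have hQN : (Q : Subgroup G) ≤ Subgroup.centralizer (N : Set G) := by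
        obtain ⟨g, rfl⟩ := MulAction.exists_smul_eq G Q' Q
        rintro _ ⟨y, hy, rfl⟩
        exact (inferInstance : (Subgroup.centralizer (N : Set G)).Normal).conj_mem y (hQ'N hy) g
      have hQnorm : (Q : Subgroup G) ≤ Subgroup.normalizer ((P : Subgroup G) : Set G) := fun y hy =>
        mem_normalizer_of_conj_mem fun x hx => by
          have h2 := inv_mem (hNle P (h x hx y hy))
          rw [show y * x * y⁻¹ = (x * y * x⁻¹ * y⁻¹)⁻¹ * x by group]
          exact mul_mem h2 hx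
      refine ⟨P, Q, fun x hx y hy => Subgroup.mem_centralizer_iff.1 ?_ x hx⟩
      refine Cfsg.Agent.Grp.le_centralizer_of_series (Q : Subgroup G) (P : Subgroup G) N hQnorm ?_ ?_ ?_ ?_ hy
      · obtain ⟨i, hi⟩ := IsPGroup.iff_card.1 Q.isPGroup'
        obtain ⟨j, hj⟩ := IsPGroup.iff_card.1 P.isPGroup'
        rw [hi, hj]
        exact Nat.coprime_pow_primes i j Fact.out Fact.out hpq.symm
      · exact Or.inl (by haveI := Q.isPGroup'.isNilpotent; infer_instance)
      · rw [Subgroup.commutator_le]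
        exact h
      · rw [Subgroup.commutator_eq_bot_iff_le_centralizer, Subgroup.le_centralizer_iff]
        exact hQN
    -- all minimal normal subgroups are of one kind
    obtain ⟨N, hN, hN0, -, hmin⟩ := Cfsg.Agent.Grp.exists_minimal_normal_le (N := (⊤ : Subgroup G)) htriv
    haveI := hN
    have key : ∀ (r s : ℕ) [Fact r.Prime] [Fact s.Prime] (Mr : Ideal AlgInt), r ≠ s → IsPModular r Mr →
        IsPSolvable r G → IsPSolvable s G → Cond Mr r s G → IsPGroup r N →
        (∀ K : Subgroup G, K.Normal → K ≠ ⊥ → r ∣ Nat.card K) →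
        ∀ (P : Sylow r G) (Q : Sylow s G),
          (∀ x ∈ (P : Subgroup G), ∀ y ∈ (Q : Subgroup G), x * y * x⁻¹ * y⁻¹ ∈ N) →
          ∀ x ∈ (P : Subgroup G), ∀ y ∈ (Q : Subgroup G), x * y = y * x := by
      intro r s _ _ Mr hrs hMr hr hs hc hNr hall P Q h
      refine centralizes_of_quotient hr hs hrs (fun χ hχ => hc χ ?_ hχ) N hNr P Q h
      rw [mem_principal_iff_ker hMr hr]
      intro z hz
      have hcore : pPrimeCore r G = ⊥ := by_contra fun hne =>
        Cfsg.Agent.Grp.pPrimeCore_not_dvd (hall _ Cfsg.Agent.Grp.pPrimeCore_isNormal hne)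
      rw [hcore, Subgroup.mem_bot] at hz
      rw [hz]
    have hall : ∀ (r s : ℕ) [Fact r.Prime] [Fact s.Prime],
        (∀ K : Subgroup G, K.Normal → K ≠ ⊥ →
          (∀ L : Subgroup G, L.Normal → L ≤ K → L = ⊥ ∨ L = K) → IsPGroup r K ∨ IsPGroup s K) →
        ¬ (∃ M : Subgroup G, M.Normal ∧ M ≠ ⊥ ∧ IsPGroup s M) →
        ∀ K : Subgroup G, K.Normal → K ≠ ⊥ → r ∣ Nat.card K := by
      intro r s _ _ hcases hno K hK hK0
      haveI := hK
      obtain ⟨L, hL, hL0, hLK, hLmin⟩ := Cfsg.Agent.Grp.exists_minimal_normal_le (N := K) hK0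
      rcases hcases L hL hL0 hLmin with hLr | hLs
      · obtain ⟨i, hi⟩ := IsPGroup.iff_card.1 hLr
        rcases Nat.eq_zero_or_pos i with rfl | hi0
        · exact absurd (Subgroup.eq_bot_of_card_eq L (hi.trans (pow_zero r))) hL0
        · exact ((dvd_pow_self r hi0.ne').trans (hi ▸ dvd_rfl)).trans (Subgroup.card_dvd_of_le hLK)
      · exact absurd ⟨L, hL, hL0, hLs⟩ hno
    rcases hcase N hN hN0 hmin with hNp | hNq
    · have hno : ¬ ∃ M : Subgroup G, M.Normal ∧ M ≠ ⊥ ∧ IsPGroup q M := fun e =>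
        hboth ⟨⟨N, hN, hN0, hNp⟩, e⟩
      obtain ⟨P, Q, h⟩ := hquot N hN hN0
      exact ⟨P, Q, key p q Mp hpq hMp hps hqs hcp hNp (hall p q hcase hno) P Q h⟩
    · have hno : ¬ ∃ M : Subgroup G, M.Normal ∧ M ≠ ⊥ ∧ IsPGroup p M := fun e =>
        hboth ⟨e, ⟨N, hN, hN0, hNq⟩⟩
      obtain ⟨P, Q, h⟩ := hquot N hN hN0
      refine ⟨P, Q, fun x hx y hy => (key q p Mq hpq.symm hMq hqs hps hcq hNq
        (hall q p (fun K a b c => (hcase K a b c).symm) hno) Q P (fun a ha b hb => ?_) y hy x hx).symm⟩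
      have h1 := inv_mem (h b hb a ha)
      rwa [show (b * a * b⁻¹ * a⁻¹)⁻¹ = a * b * a⁻¹ * b⁻¹ by group] at h1

/-- The criterion for two primes. -/
theorem cond_iff (p q : ℕ) [Fact p.Prime] [Fact q.Prime] (hpq : p ≠ q) (Mp Mq : Ideal AlgInt)
    (hMp : IsPModular p Mp) (hMq : IsPModular q Mq) (hps : IsPSolvable p G) (hqs : IsPSolvable q G) :
    (Cond Mp p q G ∧ Cond Mq q p G) ↔ ∃ (P : Sylow p G) (Q : Sylow q G),
      ∀ x ∈ (P : Subgroup G), ∀ y ∈ (Q : Subgroup G), x * y = y * x := by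
  constructor
  · exact fun h => com_of_cond (Nat.card G) G le_rfl p q hpq Mp Mq hMp hMq hps hqs h.1 h.2
  · rintro ⟨P, Q, h⟩
    exact ⟨fun χ hχ _ => not_dvd_of_commute hMp hps hpq P Q h χ hχ,
      fun χ hχ _ => not_dvd_of_commute hMq hqs hpq.symm Q P (fun x hx y hy => (h y hy x hx).symm) χ hχ⟩

/-- Equal sets of characters of coprime degree in the two principal blocks force equal primes. -/
theorem eq_of_sets_eq (p q : ℕ) [Fact p.Prime] [Fact q.Prime] (hp : p ∣ Nat.card G)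
    (hps : IsPSolvable p G) (hqs : IsPSolvable q G) (Mp Mq : Ideal AlgInt)
    (hMp : IsPModular p Mp) (hMq : IsPModular q Mq)
    (h : ∀ χ : IrrCharacter G, (χ ∈ principalBlock Mp G ∧ ¬ p ∣ charDegree (χ : G → ℂ)) ↔
      (χ ∈ principalBlock Mq G ∧ ¬ q ∣ charDegree (χ : G → ℂ))) : p = q := by
  classical
  by_contra hpq
  letI : Fintype G := Fintype.ofFinite G
  obtain ⟨P, Q, hPQ⟩ := com_of_cond (Nat.card G) G le_rfl p q hpq Mp Mq hMp hMq hps hqs
    (fun χ a b => ((h χ).1 ⟨a, b⟩).2) (fun χ a b => ((h χ).2 ⟨a, b⟩).2)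
  have hPq : (P : Subgroup G) ≤ pPrimeCore q G :=
    le_pPrimeCore_of_commute hqs (Ne.symm hpq) Q (P : Subgroup G) P.isPGroup'
      (fun x hx y hy => (hPQ y hy x hx).symm)
  haveI : (pPrimeCore p G).Normal := Cfsg.Agent.Grp.pPrimeCore_isNormal
  set O := pPrimeCore p G with hO
  set π := QuotientGroup.mk' O with hπ
  have hπs : Function.Surjective π := QuotientGroup.mk'_surjective O
  set P' := P.mapSurjective hπs with hP'
  letI : Fintype (G ⧸ O) := Fintype.ofFinite _
  letI : Fintype (P' : Subgroup (G ⧸ O)) := Fintype.ofFinite _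
  -- every linear character of `P'` is trivial
  have hlin : ∀ μ : (P' : Subgroup (G ⧸ O)) →* ℂˣ, μ = 1 := by
    intro μ
    let η : IrrCharacter (P' : Subgroup (G ⧸ O)) := ⟨fun z => (μ z : ℂ), isIrr_linear μ⟩
    obtain ⟨χ, hχd, hχ⟩ := exists_pPrime_above (p := p) (P' : Subgroup (G ⧸ O)) η P'.not_dvd_index (by
      show ¬ p ∣ charDegree (fun z : (P' : Subgroup (G ⧸ O)) => (μ z : ℂ))
      simp [charDegree, (Fact.out : p.Prime).ne_one])
    let χ' : IrrCharacter G := ⟨_, IsIrr.comp_surjective π hπs χ.2⟩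
    have hd' : charDegree (χ' : G → ℂ) = charDegree (χ : (G ⧸ O) → ℂ) := by simp [χ', charDegree]
    have hmem : χ' ∈ principalBlock Mp G := by
      rw [mem_principal_iff_ker hMp hps]
      intro z hz
      show (χ : G ⧸ O → ℂ) (π z) = (χ : G ⧸ O → ℂ) (π 1)
      rw [map_one, show π z = 1 from (QuotientGroup.eq_one_iff z).2 hz]
    have h1 := ((h χ').1 ⟨hmem, hd'.symm ▸ hχd⟩).1
    rw [mem_principal_iff_ker hMq hqs] at h1
    refine MonoidHom.ext fun z => Units.ext ?_
    obtain ⟨x, hx, hxz⟩ := z.2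
    have h2 : (χ : G ⧸ O → ℂ) z = (χ : G ⧸ O → ℂ) 1 := by
      rw [← hxz, ← map_one π]
      exact h1 x (hPq hx)
    have h3 := constituent_ker (IsChar.res (irr_isChar χ) (P' : Subgroup (G ⧸ O))) η.2 hχ
      (show (χ : G ⧸ O → ℂ) z = (χ : G ⧸ O → ℂ) ((1 : (P' : Subgroup (G ⧸ O))) : G ⧸ O) from h2)
    simpa [η] using h3
  haveI : Group.IsNilpotent (P' : Subgroup (G ⧸ O)) := P'.isPGroup'.isNilpotent
  have hP'1 : Subsingleton (P' : Subgroup (G ⧸ O)) := by
    by_contra hne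
    rw [not_subsingleton_iff_nontrivial] at hne
    refine (IsSolvable.commutator_lt_top_of_nontrivial (P' : Subgroup (G ⧸ O))).ne
      (eq_top_iff.2 fun z _ => (QuotientGroup.eq_one_iff z).1 ?_)
    show Abelianization.of z = 1
    exact eq_one_of_forall_linear (fun a b => mul_comm a b)
      (fun l => DFunLike.congr_fun (hlin (l.comp Abelianization.of)) z)
  obtain ⟨k, hk⟩ := exists_prime_orderOf_dvd_card' (G := (P : Subgroup G)) p
    (P.dvd_card_of_dvd_card hp)
  have hkO : (k : G) ∈ O := (QuotientGroup.eq_one_iff (k : G)).1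
    (congrArg Subtype.val (hP'1.elim (⟨π k, ⟨k, k.2, rfl⟩⟩ : (P' : Subgroup (G ⧸ O))) 1))
  have h4 := O.orderOf_dvd_natCard hkO
  rw [Subgroup.orderOf_coe, hk] at h4
  exact Cfsg.Agent.Grp.pPrimeCore_not_dvd h4

end Cfsg.Agent.Block.TwoPrime
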