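import Cfsg.Agent.Lib.Block.TwoPrime.Basic
import Cfsg.Agent.Lib.Grp.Coprime

/-!
Two primes and principal blocks: when every `p'`-degree is prime to `q`, the fixed points of `P` on a
normal `p'`-subgroup normalise a Sylow `q`-subgroup centralising `P`.
-/

set_option autoImplicit false
set_option linter.unusedSectionVars false

open scoped commutatorElement Pointwise

namespace Cfsg.Agent.Block.TwoPrime

open Cfsg Cfsg.Agent.Char Cfsg.Agent.Block

universe u

variable {G : Type u} [Group G] [Finite G] {p q : ℕ} [hp : Fact p.Prime] [hq : Fact q.Prime]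

/-- A minimal normal subgroup of a `p`-solvable group is a `p`-group or a `p'`-group. -/
theorem minimal_cases (hps : IsPSolvable p G) {N : Subgroup G} [N.Normal] (hN : N ≠ ⊥)
    (hmin : ∀ K : Subgroup G, K.Normal → K ≤ N → K = ⊥ ∨ K = N) :
    IsPGroup p N ∨ ¬ p ∣ Nat.card N := by
  have hNs : IsPSolvable p N := PPartDerived.isPSolvable_subgroup hps N
  have key : ∀ K : Subgroup N, K.Characteristic → K = ⊥ ∨ K = ⊤ := by
    intro K hK
    rcases hmin (K.map N.subtype) inferInstance (Subgroup.map_subtype_le K) with h | h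
    · exact Or.inl ((Subgroup.map_eq_bot_iff_of_injective K N.subtype_injective).1 h)
    · refine Or.inr (Subgroup.map_injective N.subtype_injective ?_)
      rw [h, ← MonoidHom.range_eq_map, N.range_subtype]
  rcases key (pCore p N) inferInstance with h1 | h1
  · rcases key (pPrimeCore p N) inferInstance with h2 | h2
    · exfalso
      refine hN (Subgroup.eq_bot_iff_forall _ |>.2 fun x hx => ?_)
      have h := Grp.isPSolvable_eq_top_of_cores hNs h1 h2
      have h2 : (⟨x, hx⟩ : N) = 1 := Subgroup.mem_bot.1 (h ▸ Subgroup.mem_top (⟨x, hx⟩ : N))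
      exact congrArg (fun z : N => (z : G)) h2
    · right
      have h := Grp.pPrimeCore_not_dvd (p := p) (G := N)
      rwa [h2, Subgroup.card_top] at h
  · left
    have h := Grp.pCore_isPGroup (p := p) (G := N)
    rw [h1] at h
    exact h.of_equiv Subgroup.topEquiv

theorem mem_normalizer_of_conj_mem {Q : Subgroup G} {c : G} (h : ∀ y ∈ Q, c * y * c⁻¹ ∈ Q) :
    c ∈ Subgroup.normalizer (Q : Set G) := by
  rw [Grp.mem_normalizer_iff_smul]
  refine Subgroup.eq_of_le_of_card_ge ?_ ?_
  · rintro _ ⟨y, hy, rfl⟩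
    exact h y hy
  · exact (Nat.card_congr (Subgroup.equivSMul (MulAut.conj c) Q).toEquiv).le

/-- Fixed points of `P` on a `q'`-group normalised by everything are centralised by `Q`. -/
theorem centralizes_fixed (P : Sylow p G) (Q : Sylow q G)
    (hcomm : ∀ x ∈ (P : Subgroup G), ∀ y ∈ (Q : Subgroup G), x * y = y * x)
    (hdeg : ∀ χ : IrrCharacter G, ¬ p ∣ charDegree (χ : G → ℂ) → ¬ q ∣ charDegree (χ : G → ℂ))
    (R : Subgroup G) [R.Normal] (hRp : ¬ p ∣ Nat.card R) (hQR : (Q : Subgroup G) ≤ R)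
    (N : Subgroup G) [N.Normal] (hNR : N ≤ R) (hNq : ¬ q ∣ Nat.card N)
    (hconj : ∀ c ∈ R ⊓ Subgroup.centralizer ((P : Subgroup G) : Set G),
      ∃ m ∈ N, MulAut.conj c • (Q : Subgroup G) = MulAut.conj m • (Q : Subgroup G))
    (n : G) (hn : n ∈ N) (hnP : n ∈ Subgroup.centralizer ((P : Subgroup G) : Set G))
    (y : G) (hy : y ∈ (Q : Subgroup G)) : y * n = n * y := by
  classical
  letI : Fintype G := Fintype.ofFinite G
  letI : Fintype N := Fintype.ofFinite _
  set Γ := Subgroup.centralizer ((P : Subgroup G) : Set G) with hΓ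
  set L := N.subgroupOf Γ with hL
  haveI : L.Normal := Subgroup.Normal.subgroupOf inferInstance _
  letI : Fintype L := Fintype.ofFinite _
  have hQΓ : (Q : Subgroup G) ≤ Γ := fun z hz =>
    Subgroup.mem_centralizer_iff.2 fun x hx => hcomm x hx z hz
  set S := (Q : Subgroup G).subgroupOf Γ with hS
  have hNp : ¬ p ∣ Nat.card N := fun h => hRp (h.trans (Subgroup.card_dvd_of_le hNR))
  have hnorm : ∀ s ∈ (P : Subgroup G), ∀ g ∈ N, s * g * s⁻¹ ∈ N := fun s _ g hg =>
    (inferInstance : N.Normal).conj_mem g hg s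
  set T := (Glaub.conjHom N (P : Subgroup G) hnorm).range with hT
  have hTp : IsPGroup p T := P.isPGroup'.of_surjective _
    (Glaub.conjHom N (P : Subgroup G) hnorm).rangeRestrict_surjective
  letI : Fintype (Glaub.fix T) := Fintype.ofFinite _
  have hcop : Nat.Coprime (Nat.card N) p := ((hp.out.coprime_iff_not_dvd).2 hNp).symm
  have hmem : ∀ x : N, x ∈ Glaub.fix T ↔ (x : G) ∈ Γ := by
    intro x
    rw [Glaub.mem_fix, hΓ, Subgroup.mem_centralizer_iff]
    constructor
    · intro h s hs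
      have h1 : s * (x : G) * s⁻¹ = (x : G) := congrArg Subtype.val (h _ ⟨⟨s, hs⟩, rfl⟩)
      exact mul_inv_eq_iff_eq_mul.1 h1
    · rintro h _ ⟨⟨s, hs⟩, rfl⟩
      exact Subtype.ext (mul_inv_eq_iff_eq_mul.2 (h s hs))
  let e : Glaub.fix T ≃* L :=
    { toFun := fun x => ⟨⟨((x : N) : G), (hmem _).1 x.2⟩, (x : N).2⟩
      invFun := fun l => ⟨⟨((l : Γ) : G), l.2⟩, (hmem _).2 (l : Γ).2⟩
      left_inv := fun x => rfl
      right_inv := fun l => rfl
      map_mul' := fun a b => rfl }
  obtain ⟨M, hM⟩ := exists_isPModular p hp.out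
  have hsolvP : Group.IsSolvable (P : Subgroup G) := by
    haveI := P.isPGroup'.isNilpotent
    infer_instance
  have hfix : S ≤ Subgroup.centralizer (L : Set Γ) := by
    refine PPartDerived.centralizes_of_fix S L ?_ ?_ ?_
    · haveI : Group.IsNilpotent S :=
        (Q.isPGroup'.comap_of_injective Γ.subtype Γ.subtype_injective).isNilpotent
      infer_instance
    · obtain ⟨j, hj⟩ := IsPGroup.iff_card.1
        (Q.isPGroup'.comap_of_injective Γ.subtype Γ.subtype_injective)
      rw [hS, Subgroup.subgroupOf, hj]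
      refine Nat.Coprime.pow_right _ (((hq.out.coprime_iff_not_dvd).2 fun h => hNq ?_).symm)
      exact h.trans (Subgroup.card_dvd_of_injective (Γ.subtype.comp L.subtype |>.codRestrict N fun l => l.2)
        fun a b hab => Subtype.ext (Subtype.ext (congrArg (fun z : N => (z : G)) hab :)))
    intro η s hs g g' hgg
    let β : IrrCharacter (Glaub.fix T) := ⟨fun x => (η : L → ℂ) (e x), IsIrr.comp_mulEquiv e η.2⟩
    obtain ⟨θ, hθi, hθc⟩ := Glaub.surj_corr hM hTp hcop β
    have hθP := (Glaub.inv_conjHom_iff N (P : Subgroup G) hnorm (θ : N → ℂ)).1 hθi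
    obtain ⟨χ, hχd, hχ⟩ := exists_pPrime_over_invariant P N hNp θ hθP
    set I := inertia N (θ : N → ℂ) with hI
    have hIq : ¬ q ∣ I.index := by
      intro h
      refine hdeg χ hχd ?_
      obtain ⟨m, hm⟩ := IsChar.classInner_nat (IsChar.res (irr_isChar χ) N) (irr_isChar θ)
      have h1 := clifford_one N χ.2 θ.2 hχ
      rw [hm, charDeg_spec' χ, charDeg_spec' θ, ← Nat.cast_mul, ← Nat.cast_mul, Nat.cast_inj] at h1
      rw [h1]
      exact (h.mul_left _).mul_right _
    have hPI : (P : Subgroup G) ≤ I := by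
      intro x hx
      rw [hI, mem_inertia]
      funext m
      exact hθP x hx m _ rfl
    -- a Sylow `q`-subgroup of `R` inside `I` normalised by `P`
    set J := I ⊓ R with hJ
    have hcopJ : (Nat.card (P : Subgroup G)).Coprime (Nat.card J) := by
      obtain ⟨i, hi⟩ := IsPGroup.iff_card.1 P.isPGroup'
      rw [hi]
      exact ((hp.out.coprime_iff_not_dvd).2 fun h =>
        hRp (h.trans (Subgroup.card_dvd_of_le inf_le_right))).pow_left i
    have hPJ : (P : Subgroup G) ≤ Subgroup.normalizer (J : Set G) := fun x hx =>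
      mem_normalizer_of_conj_mem fun z hz => Subgroup.mem_inf.2
        ⟨I.mul_mem (I.mul_mem (hPI hx) hz.1) (I.inv_mem (hPI hx)),
          (inferInstance : R.Normal).conj_mem z hz.2 x⟩
    obtain ⟨X, hX, hXP⟩ := Grp.exists_invariant_sylow (P : Subgroup G) J hPJ hcopJ (Or.inl hsolvP) q
    have hXR : Grp.IsSylowIn q X R := by
      refine ⟨hX.1.trans inf_le_right, hX.2.1, fun h => ?_⟩
      rw [← Subgroup.relIndex_mul_relIndex X J R hX.1 inf_le_right] at h
      rcases hq.out.dvd_mul.1 h with h | h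
      · exact hX.2.2 h
      · rw [hJ, Subgroup.inf_relIndex_right] at h
        exact hIq (h.trans (relIndex_dvd_index' R I))
    have hQR' : Grp.IsSylowIn q (Q : Subgroup G) R :=
      ⟨hQR, Q.isPGroup', fun h => Q.not_dvd_index (h.trans (Subgroup.relIndex_dvd_index_of_le hQR))⟩
    have hcopR : (Nat.card (P : Subgroup G)).Coprime (Nat.card R) := by
      obtain ⟨i, hi⟩ := IsPGroup.iff_card.1 P.isPGroup'
      rw [hi]
      exact ((hp.out.coprime_iff_not_dvd).2 hRp).pow_left i
    obtain ⟨c, hc, hcX⟩ := Grp.invariant_sylow_conj (P : Subgroup G) R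
      (fun x _ => Subgroup.normalizer_eq_top_iff.2 ‹R.Normal› ▸ Subgroup.mem_top x) hcopR (Or.inl hsolvP)
      hQR' hXR (fun x hx => mem_normalizer_of_conj_mem fun z hz => by
        rw [hcomm x hx z hz, mul_inv_cancel_right]; exact hz) hXP
    obtain ⟨m, hm, hmX⟩ := hconj c hc
    have hsI : ((s : Γ) : G) ∈ I := by
      have h1 : m * ((s : Γ) : G) * m⁻¹ ∈ MulAut.conj m • (Q : Subgroup G) := ⟨_, hs, rfl⟩
      rw [← hmX, hcX] at h1
      have h2 : m * ((s : Γ) : G) * m⁻¹ ∈ I := (hX.1.trans inf_le_left) h1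
      have hmI : m ∈ I := le_inertia N (IsIrr.classFun θ.2) hm
      have h3 := I.mul_mem (I.mul_mem (I.inv_mem hmI) h2) hmI
      simpa [mul_assoc] using h3
    -- equivariance
    let a : MulAut N := MulAut.conjNormal ((s : Γ) : G)
    have hafix : ∀ x : N, x ∈ Glaub.fix T ↔ a x ∈ Glaub.fix T := by
      intro x
      rw [hmem, hmem, MulAut.conjNormal_apply]
      exact ⟨fun h => Γ.mul_mem (Γ.mul_mem s.2 h) (Γ.inv_mem s.2), fun h => by
        simpa [mul_assoc] using Γ.mul_mem (Γ.mul_mem (Γ.inv_mem s.2) h) s.2⟩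
    let e' : MulAut (Glaub.fix T) :=
      { toFun := fun x => ⟨a x, (hafix x).1 x.2⟩
        invFun := fun x => ⟨a.symm x, (hafix _).2 (by rw [MulEquiv.apply_symm_apply]; exact x.2)⟩
        left_inv := fun x => Subtype.ext (a.symm_apply_apply _)
        right_inv := fun x => Subtype.ext (a.apply_symm_apply _)
        map_mul' := fun x z => Subtype.ext (map_mul a _ _) }
    let β' : IrrCharacter (Glaub.fix T) :=
      ⟨fun x => (β : Glaub.fix T → ℂ) (e' x), IsIrr.comp_mulEquiv e' β.2⟩
    have hθa : Glaub.autIrr a θ = θ := by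
      refine Subtype.ext (funext fun x => ?_)
      have h := congrFun ((mem_inertia N).1 hsI) x
      rw [conjN_eq_comp] at h
      exact h
    have hmult := Glaub.mult_comp_aut θ β β' a e' (fun x => rfl) (fun x => rfl)
    rw [hθa] at hmult
    have hβ : β' = β := Glaub.corr_unique hM hTp hcop hθi (by
      show ¬ p ∣ _
      rw [hmult]; exact hθc) hθc
    have h := congrFun (congrArg Subtype.val hβ) (e.symm g)
    have e1 : e (e' (e.symm g)) = g' := by
      refine Subtype.ext (Subtype.ext ?_)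
      show ((a (e.symm g : N) : N) : G) = ((g' : Γ) : G)
      rw [MulAut.conjNormal_apply]
      exact (congrArg Subtype.val hgg).symm
    have h' : (η : L → ℂ) (e (e' (e.symm g))) = (η : L → ℂ) (e (e.symm g)) := h
    rwa [e1, MulEquiv.apply_symm_apply] at h'
  have hnΓ : (⟨n, hnP⟩ : Γ) ∈ L := hn
  exact congrArg Subtype.val
    (Subgroup.mem_centralizer_iff.1 (hfix (show (⟨y, hQΓ hy⟩ : Γ) ∈ S from hy)) ⟨n, hnP⟩ hnΓ).symm

/-- Elements of `R` centralising `P` normalise `Q`. -/
theorem normalizes : ∀ (k : ℕ) (G : Type u) [Group G] [Finite G], Nat.card G ≤ k →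
    IsPSolvable q G →
    (∀ χ : IrrCharacter G, ¬ p ∣ charDegree (χ : G → ℂ) → ¬ q ∣ charDegree (χ : G → ℂ)) →
    ∀ (P : Sylow p G) (Q : Sylow q G),
      (∀ x ∈ (P : Subgroup G), ∀ y ∈ (Q : Subgroup G), x * y = y * x) →
      ∀ (R : Subgroup G), R.Normal → ¬ p ∣ Nat.card R → (Q : Subgroup G) ≤ R →
      ∀ c ∈ R, c ∈ Subgroup.centralizer ((P : Subgroup G) : Set G) →
        MulAut.conj c • (Q : Subgroup G) = (Q : Subgroup G) := by
  intro k
  induction k with
  | zero =>
    intro G _ _ h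
    have := Nat.card_pos (α := G)
    omega
  | succ k ih =>
    intro G _ _ hk hqs hdeg P Q hcomm R hR hRp hQR c hcR hcP
    classical
    by_cases hR0 : R = ⊥
    · rw [hR0, Subgroup.mem_bot] at hcR
      rw [hcR, map_one, one_smul]
    haveI := hR
    obtain ⟨N, hN, hN0, hNR, hmin⟩ := Cfsg.Agent.Grp.exists_minimal_normal_le (N := R) hR0
    haveI := hN
    set π := QuotientGroup.mk' N with hπ
    have hπs : Function.Surjective π := QuotientGroup.mk'_surjective N
    have hker : π.ker = N := QuotientGroup.ker_mk' N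
    -- conjugates of `Q` agree modulo `N`
    have hstep : ∀ d ∈ R, d ∈ Subgroup.centralizer ((P : Subgroup G) : Set G) →
        ∀ y ∈ (Q : Subgroup G), d * y * d⁻¹ ∈ (Q : Subgroup G) ⊔ N := by
      intro d hdR hdP y hy
      have h1 := ih (G ⧸ N) (by have := Cfsg.Agent.Grp.card_quotient_lt hN0; omega)
        (Grp.isPSolvable_map hqs π hπs)
        (fun χ hχ => by
          have h := hdeg ⟨_, IsIrr.comp_surjective π hπs χ.2⟩
          have e : charDegree (fun g : G => (χ : (G ⧸ N) → ℂ) (π g)) =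
              charDegree (χ : (G ⧸ N) → ℂ) := by simp [charDegree]
          rw [show charDegree ((⟨_, IsIrr.comp_surjective π hπs χ.2⟩ : IrrCharacter G) : G → ℂ) =
            charDegree (χ : (G ⧸ N) → ℂ) from e] at h
          exact h hχ)
        (P.mapSurjective hπs) (Q.mapSurjective hπs)
        (by
          rintro _ ⟨a, ha, rfl⟩ _ ⟨b, hb, rfl⟩
          rw [← map_mul, ← map_mul, hcomm a ha b hb])
        (R.map π) (hR.map π hπs) (fun h => hRp (h.trans (Subgroup.card_map_dvd _ _)))
        (Subgroup.map_mono hQR) (π d) ⟨d, hdR, rfl⟩ (by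
          rw [Subgroup.mem_centralizer_iff]
          rintro _ ⟨a, ha, rfl⟩
          rw [← map_mul, ← map_mul, Subgroup.mem_centralizer_iff.1 hdP a ha])
      have h2 : π (d * y * d⁻¹) ∈ MulAut.conj (π d) • ((Q.mapSurjective hπs : Sylow q (G ⧸ N)) : Subgroup (G ⧸ N)) :=
        ⟨π y, ⟨y, hy, rfl⟩, by simp⟩
      rw [h1] at h2
      rw [← hker, ← Subgroup.comap_map_eq]
      exact h2
    rcases minimal_cases hqs hN0 hmin with hNq | hNq
    · -- `N` lies in `Q`
      have hNQ : N ≤ (Q : Subgroup G) := by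
        refine le_trans ?_ (Cfsg.Agent.Grp.pCore_le_sylow Q)
        exact Cfsg.Agent.Grp.le_pCore hN hNq
      refine Cfsg.Agent.Grp.mem_normalizer_iff_smul.1 (mem_normalizer_of_conj_mem fun y hy => ?_)
      simpa [sup_eq_left.2 hNQ] using hstep c hcR hcP y hy
    -- `N` is a `q'`-group
    set Γ := Subgroup.centralizer ((P : Subgroup G) : Set G) with hΓ
    have hQΓ : (Q : Subgroup G) ≤ Γ := fun z hz =>
      Subgroup.mem_centralizer_iff.2 fun x hx => hcomm x hx z hz
    have hconj : ∀ d ∈ R ⊓ Γ, ∃ m ∈ N ⊓ Γ,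
        MulAut.conj d • (Q : Subgroup G) = MulAut.conj m • (Q : Subgroup G) := by
      rintro d ⟨hdR, hdP⟩
      set H := ((Q : Subgroup G) ⊔ N) ⊓ Γ with hH
      have hQH : (Q : Subgroup G) ≤ H := le_inf le_sup_left hQΓ
      have hdH : ((d • Q : Sylow q G) : Subgroup G) ≤ H := by
        rintro z ⟨y, hy, rfl⟩
        exact Subgroup.mem_inf.2 ⟨hstep d hdR hdP y hy,
          Γ.mul_mem (Γ.mul_mem hdP (hQΓ hy)) (Γ.inv_mem hdP)⟩
      obtain ⟨h, hh⟩ := MulAction.exists_smul_eq H (Q.subtype hQH) ((d • Q).subtype hdH)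
      rw [Sylow.smul_subtype] at hh
      have e : (h : G) • Q = d • Q := Sylow.subtype_injective hh
      obtain ⟨hsup, hhΓ⟩ := Subgroup.mem_inf.1 h.2
      rw [sup_comm, Subgroup.mem_sup_of_normal_left] at hsup
      obtain ⟨m, hm, y, hy, hmy⟩ := hsup
      have hmΓ : m ∈ Γ := by
        rw [show m = (h : G) * y⁻¹ by rw [← hmy, mul_inv_cancel_right]]
        exact Γ.mul_mem hhΓ (Γ.inv_mem (hQΓ hy))
      refine ⟨m, ⟨hm, hmΓ⟩, ?_⟩
      have e' : ((d • Q : Sylow q G) : Subgroup G) = (((h : G) • Q : Sylow q G) : Subgroup G) := by rw [e]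
      rw [Sylow.coe_subgroup_smul, Sylow.coe_subgroup_smul, ← hmy, map_mul, mul_smul,
        Cfsg.Agent.Grp.mem_normalizer_iff_smul.1 (Subgroup.le_normalizer hy)] at e'
      exact e'
    obtain ⟨m, ⟨hm, hmΓ⟩, e⟩ := hconj c ⟨hcR, hcP⟩
    rw [e]
    refine Cfsg.Agent.Grp.mem_normalizer_iff_smul.1 (mem_normalizer_of_conj_mem fun y hy => ?_)
    have h := centralizes_fixed P Q hcomm hdeg R hRp hQR N hNR hNq (fun d hd => by
      obtain ⟨m', hm', e'⟩ := hconj d hd
      exact ⟨m', hm'.1, e'⟩) m hm hmΓ y hy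
    rwa [← h, mul_inv_cancel_right]

end Cfsg.Agent.Block.TwoPrime
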